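import Cfsg.Agent.RV.Defs
import Cfsg.Agent.KInv.CoC

/-!
The centraliser and normaliser of an element of order 13 in `Co0`.
-/

set_option autoImplicit false
set_option maxRecDepth 100000

namespace Cfsg.Lib.RV

open Subgroup Matrix
open Cfsg.Lib.Spor Cfsg.Lib.SporChar

section

open Cfsg.Lib.Spor.CK Cfsg.Lib.SporChar.Co Cfsg.Lib.KInv.Co

/-- An element with square `-1` centralising `m13`. -/
def c13A : ℕ := 0x4002001000800400200100080040020020008004002001000800400200100080040020010008004002001000800400200200080040020010008004002001000800400200100080040020010008004002001000800400200100080040040010008004002001000800400200100080040020010008004002001000800400200100080040020010008004002001000800400200200080040020010008004000001000800400200100080040020010008004002001000800400200100080040020010008004002001000800400200100080040020010008004002001000800400200100080000020010008004002001000800400200100080040020010008004002001001000400200100080040020010008008002001000800400200100080040020010008004002001000800400200100080040020010008004002001000800400200100080040020010008004002001000800400000100080040020010008004002001000800400200100080080020010008004002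001000800400200100080040020010008004002001000800400200100080040020010010004002001000800400200100080040020010008004002001000800400400100080040020010008004002001000800400200100080040020010008004002001000800400200100080040020010008004000001000800400200100080040020010008004002001000800400200100080040020010008004002001000800400200100080040020010000004002001000800400200100080040020010008004002001000800400200100080040000010008004002001000800400200100080040020010008004002000000800400200100080040020010008004002000000800400200100080040020010008004002001000800400200100080040020010008004002001000800400200100080040020010008004002001000800400200100080040020000008004002001000800400200100080040020010008000002001000800400200100080040020010008004002001000000400200100080040020010008004002001000800400200100080040020010008004002001000800800200100080040020010008004002001000800400200100080040020010008004002001000800400200100100040020010008004002001000800400200100080040020010008004002001000800400200100080040020010008004002001000800400200100100040020010008004002001000800400200100080040020010008004002001000800000200100080040020010008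
/-- An element of order 3 centralising `m13`. -/
def c13H : ℕ := 0x600200100080040020010008004002001800800400200100080020020010008004002001000400400200100080040020018008004003001000800400200100080040020010008004001000800800400200100080040020008008004003001000800400200100080040020010008004001001800800400200100080040020010008004002001000c00400100100080040020018008002002001000800400100100080040030010008004002001000800600200100080040020010004004002001000800400200100080040020010008004002001000c004003001000800400200080080020020010008004002001000c00200200100080040020010008004002001000c0040010010008004002001000800600200100080040020010008004002000800800400200100080020020010008004002001000c0040020010004002002001000800400200100080040020010004004001001000800400200100080040020008008004002001000c006002001000800400200080080040020010008004002001000800400200100080040020010008004002001000c00400100100080040020008008006002001000800400300100080040030010008004002001000800200200100080040020010004004002001000800400200100080040020010008004002001000400400100100080040020008008002002001000800600200100080040020010008004002000800800400200100080060020010008004002001000400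40020010008004002000800800400100100080040020010008004002001000800400100080080040020018008004002001000c0020020010008004002000800800400200100080040020010008004002000800800400200100040020020010008004002000800800400200100080040020010008004002001000800400200080080040030010008004002001000800400200100080040030008008004001001000800400100100080040020010008002002001000800400200100040040020010008004002001000400200200100080040020010008004002001000c00400300100080040020010008004002001000400600200100080040020010008004002001000c004001001000800400200100080040020008008004002001000c00200200100080040020018008004002001000800400200100080040010010008004003001000800400200100080020020010008004002001000c0040020010008002002001000800400200100080040020008008004002001000800200200100080040020010004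
/-- An element inverting `m13`. -/
def c13W : ℕ := 0x4002001000c00400200100080040020018008004002001000c0060020010008004002001000800400100100080040020008008004003001000800600200100080040020010008004002001000800400100100080040020018008004003001000800200200100080040020010008004002001000800400200100080040020010008006002001000c00400300180080040020010008004002001000800400300100080040020018008004003001000800600200100080040020010008004002001000800400200100080040020010008006002001000c004001000800800400200100080040020010008004002001000400400200100080040020018008004002001000c002002001000800400200100080020020010008006002001000800400200100080040020010008004003001000800400200100040020020010008002002001000800400200100080040020010008004001001000800400200100040040020008008004002001000c00400200100080040020010008004002001800800200200100080040020018008004002001000400400200100080040020010008004002001800800200200100080040020010008004003001000800400200100080040020010008004002001000400400300080080040020018008004002001000c00400200100080040020010008004002000800800200200100080060020010008006002001000800400200100080040020010008004001001000800400200100040040020010008004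00100100080040020010008004002001000800400200100040040010008008004002000800800400200100040040020010008004002001000800400200080080020020010008004002001000800400200100080060020010004004003000800800400200100080040020010008004002001000800400300100080040020010008004002001000800400200100040040010018008004003001000800400200080080040030010008002002001000800400200100080040020010008004002001000c00400200100080040020008008004002001000c00200200100080040020010008006002001000800200200100080040020010008004002001000800400300100080040020010004004002001000800400200100080060020010004004001001800800400200100080040020010008004002001000800400100100080040020010008004002001000800400200100040040030018008004002001000400400200100080040020008008004002001000c00600200100080040020010008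
/-- An element squaring `m13`. -/
def c13C : ℕ := 0x4001800c00a0040020014008004001801000a005002000c0080030028014008004001001000a004002800c00a004002000c008004001801000a003003000c008005002800c008004002001000600300200100080030028010006005002000c008004001801000a004002000800a0030018014008004001801400a002002000c008004001801000a00500200140080050018014008004002001000600300200100080030028010006003002000c008004002801000600200200100060050028014008005002001000c005002801000a005002000c0080040018010006004002001000600300280140080030020008008003001801000a005002000c008004001801000a0040020010006005002800c008005002001000800300180180060050020014008004002801000a00400200100060030028014008004002800c00a004002000c0040040028010006005002000c0080050018014008004002001000a004001800c0060040030014008004002801000a003002000c008005001801400800400200100060030020010008005001801000a003002000c008004002801000a00400100100060030018014008003002001000800500180100060050020014008004001801000600400200100060050018014004004002800c0060040020014008004001801000a0050020014004005001800c008004002001000a003002001000800500280100060030010014008004001801000a0040020010006003002800c008004001801400a0040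0200140080040018010006003002000c008005001800c008006002001000a00500200100080030018010006003002000c00800200180100060040020010006003001800c0080040018014006004002000c008004002801000a005002000c008005002800c004004002001000a00500200100080050018010006003002000c00c004001801000a004002001000a0050028014008004002801400600400200140080040018008006005002000c0080050028014008004002001000600500200100080050028010006005002000c008004002801800a0040020010006005001800c008004001800c00a004002001400800200280100060050020014008005002800c008004002001000600300100100080050018010006005002000c0080040028010006004002001000a003002800c008006001800c006004002000c0080040018010006005002000c008003001800c0080040020010006004002801400a0040020014008004002801000a005002000c008003001800c0080040020008006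

theorem c13_chk : isCo0 c13A = true ∧ isCo0 c13H = true ∧ isCo0 c13W = true ∧ isCo0 c13C = true ∧
    mmul c13A m13 = mmul m13 c13A ∧ mmul c13H m13 = mmul m13 c13H ∧ mmul c13A c13A = cNeg ∧
    mmul c13H (mmul c13H c13H) = cId ∧
    (let B := mmul c13A c13H; mmul B (mmul B B) = cId) ∧ mmul m13 (mmul c13W m13) = c13W ∧
    mmul c13W c13W = cNeg ∧ mmul c13W c13A = mmul c13A c13W ∧ mmul c13W c13H = mmul c13H c13W ∧
    mmul c13C m13 = mmul (mmul m13 m13) c13C := by
  decide +kernel

attribute [local irreducible] mmul cId cNeg isCo0 cm m13 c13A c13H c13W c13C

theorem co13 : ∃ z a h w c : Co0, orderOf z = 13 ∧ (∀ v : leechLattice, z • v = v → v = 0) ∧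
    Commute a z ∧ Commute h z ∧ a * a = co0Neg ∧ h ^ 3 = 1 ∧ (a * h) ^ 3 = 1 ∧ w * z * w⁻¹ = z⁻¹ ∧
    (w * w = 1 ∨ w * w = co0Neg) ∧ Commute w a ∧ Commute w h ∧ c * z * c⁻¹ = z ^ 2 := by
  obtain ⟨a, h, w, c, k1, k2, k3, k4, k5, k6, k7, k8, k9, k10⟩ := c13_chk
  have ez := cm_el chk13.1
  replace a := cm_el a
  replace h := cm_el h
  replace w := cm_el w
  replace c := cm_el c
  have p3 : ∀ x : Co0, x ^ 3 = x * (x * x) := fun x => by rw [pow_succ', pow_two]
  refine ⟨el m13, el c13A, el c13H, el c13W, el c13C, fpf13.1, fpf13.2, comm_of_cm (by rwa [a, ez]),
    comm_of_cm (by rwa [h, ez]), cm_inj (by rwa [← mmul_cm, a, cm_neg]), ?_, ?_, ?_,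
    .inr (cm_inj (by rwa [← mmul_cm, w, cm_neg])), comm_of_cm (by rwa [a, w]),
    comm_of_cm (by rwa [h, w]), ?_⟩
  · rw [p3]; exact cm_inj (by simp only [← mmul_cm, h, cm_one]; exact k4)
  · rw [p3]; exact cm_inj (by simp only [← mmul_cm, h, a, cm_one]; exact k5)
  · rw [mul_inv_eq_iff_eq_mul, eq_inv_mul_iff_mul_eq]
    exact cm_inj (by simp only [← mmul_cm, w, ez]; exact k6)
  · rw [mul_inv_eq_iff_eq_mul, pow_two]
    exact cm_inj (by simp only [← mmul_cm, c, ez]; exact k10)

theorem co13_inv {z b : Co0} (hz : orderOf z = 13) (hb : Commute b z) (h : b * b = 1) :
    b = 1 ∨ b = co0Neg := by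
  have o : ∀ k : Co0, orderOf (k⁻¹ * z * k) = 13 := fun k => by
    rw [← hz]
    exact ((MulAut.conj k⁻¹).orderOf_eq z ▸ congrArg orderOf (by simp))
  have cm' : ∀ {k : Spor.Co1} {a : Spor.Co1}, k * a * k⁻¹ = toCo1 b →
      k⁻¹ * toCo1 z * k * a = a * (k⁻¹ * toCo1 z * k) := fun {k a} e => by
    have := congrArg toCo1 hb.eq
    rw [map_mul, map_mul, ← e] at this
    calc _ = k⁻¹ * (toCo1 z * (k * a * k⁻¹)) * k := by group
      _ = _ := by rw [← this]; group
  by_contra hne
  rw [not_or] at hne
  have h1 : toCo1 b ≠ 1 := fun e => by
    rw [← map_one toCo1, toCo1_eq_iff, mul_one] at e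
    exact e.elim hne.1 hne.2
  rcases sq_cases (g := b) (by rw [h, map_one]) with ⟨_, ⟨c, rfl⟩, e⟩ | e
  · replace e := toCo1.map_isConj e
    rcases card_cases (c := c) fun d => h1 (by rwa [d, isConj_one_right] at e) with d | d
    · obtain ⟨k, hk⟩ := isConj_iff.1 ((isConj_oct d).trans e)
      obtain ⟨k, rfl⟩ := toCo1_surjective k
      have := orderOf_dvd_natCard (⟨k⁻¹ * z * k, toCo1_mem_cent.1 (mem_centralizer_singleton_iff.2 (by
        rw [map_mul, map_mul, map_inv]; exact cm' hk))⟩ : C0)
      rw [← orderOf_coe, card_C0, o] at this
      exact absurd this (by norm_num)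
    · obtain ⟨k, hk⟩ := isConj_iff.1 e
      obtain ⟨k, rfl⟩ := toCo1_surjective k
      have := orderOf_dvd_natCard (⟨k⁻¹ * z * k, mono_of_comm_dod d (by
        rw [map_mul, map_mul, map_inv]; exact cm' hk)⟩ : monoSub)
      rw [← orderOf_coe, card_monoSub, o] at this
      exact absurd this (by norm_num)
  · obtain ⟨k, rfl⟩ := isConj_iff.1 e
    rw [conj_mul, v0_sq, co0Neg_comm k, mul_inv_cancel_right] at h
    exact co0Neg_ne_one h

open Polynomial in
theorem c13_dich {f g : ℚ[X]} (hf : Irreducible f) {A : Matrix GolayPt GolayPt ℚ}
    (h : aeval A (f * g) = 0) : f ∣ minpoly ℚ A ∨ aeval A g = 0 :=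
  or_iff_not_imp_left.2 fun d => aeval_eq_zero_of_dvd_aeval_eq_zero
    (IsCoprime.dvd_of_dvd_mul_left (hf.coprime_iff_not_dvd.2 d).symm (minpoly.dvd _ _ h))
    (minpoly.aeval ℚ A)

theorem c13_kill {y u : Co0} (hf : ∀ v : leechLattice, y • v = v → v = 0)
    (e3 : (rho y - 1) * (rho u - 1) = 0) : u = 1 := co0_ext' fun x => by
  have e4 := congrArg (·.mulVec fun i => (x.1 i : ℚ)) e3
  simp only [← Matrix.mulVec_mulVec, Matrix.sub_mulVec, Matrix.one_mulVec, rho_mulVec,
    Matrix.mulVec_sub, Matrix.zero_mulVec] at e4
  refine (sub_eq_zero.1 (hf _ (Subtype.ext (funext fun i => ?_)))).trans (one_smul _ _).symm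
  have := congrFun e4 i
  simp only [Pi.sub_apply, Pi.zero_apply] at this
  rw [sub_sub_sub_comm] at this
  rw [show y • (u • x - x) = y • u • x - y • x from map_sub (co0Hom _) _ _]
  simp only [AddSubgroupClass.coe_sub, Pi.sub_apply]
  exact_mod_cast sub_eq_zero.1 this

open Polynomial in
theorem c13_poly : (X ^ 39 - 1 : ℚ[X]) = cyclotomic 39 ℚ * (cyclotomic 3 ℚ * (X ^ 13 - 1)) ∧
    (X ^ 13) ^ 2 + X ^ 13 + 1 = cyclotomic 39 ℚ * cyclotomic 3 ℚ := by
  have : Fact (Nat.Prime 3) := ⟨Nat.prime_three⟩
  have e0 := cyclotomic_expand_eq_cyclotomic_mul (p := 13) (n := 3) (by norm_num) (by norm_num) ℚ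
  have e1 := congrArg (expand ℚ 13) (cyclotomic_prime_mul_X_sub_one ℚ 3)
  rw [map_mul, e0] at e1
  refine ⟨by simpa [← pow_mul, mul_assoc] using e1.symm, ?_⟩
  rw [← show _ = cyclotomic 39 ℚ * cyclotomic 3 ℚ from e0, cyclotomic_three]
  simp

open Polynomial in
theorem c13_main {z g : Co0} (hz : orderOf z = 13) (hf : ∀ v : leechLattice, z • v = v → v = 0)
    (c : Commute g z) {m : ℕ} (hm : m = 1 ∨ m = 3) (hg : g ^ (3 * m) = 1) :
    cyclotomic (39 * m) ℚ ∣ minpoly ℚ (rho (g * z)) ∨ g ^ m = 1 := by
  have z13 : z ^ 13 = 1 := hz ▸ pow_orderOf_eq_one z
  have e0 : expand ℚ m (cyclotomic 39 ℚ) = cyclotomic (39 * m) ℚ := by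
    rcases hm with rfl | rfl
    · simp
    · exact cyclotomic_expand_eq_cyclotomic Nat.prime_three (by norm_num) ℚ
  have e1 := congrArg (expand ℚ m) c13_poly.1
  rw [map_mul, e0] at e1
  have w1 : (g * z) ^ (m * 39) = 1 := by
    rw [c.mul_pow, show m * 39 = 3 * m * 13 by ring, pow_mul g, hg, pow_mul' z, z13]; simp
  have w2 : (g * z) ^ (m * 3) = z ^ (m * 3) := by rw [c.mul_pow, mul_comm m, hg, one_mul]
  have w3 : (g * z) ^ (m * 13) = g ^ m := by
    rw [c.mul_pow, pow_mul' z, z13, one_pow, mul_one, show m * 13 = 3 * m * 4 + m by ring, pow_add,
      pow_mul g, hg, one_pow, one_mul]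
  have e2 : aeval (rho (g * z)) (cyclotomic (39 * m) ℚ * expand ℚ m (cyclotomic 3 ℚ * (X ^ 13 - 1))) = 0 := by
    rw [← e1]
    simp only [map_sub, map_pow, expand_X, aeval_X, map_one]
    rw [← pow_mul, ← map_pow, w1, map_one, sub_self]
  refine (c13_dich (cyclotomic.irreducible_rat (by omega)) e2).imp_right
    fun e => c13_kill (y := z ^ (m * 3)) (fun v hv => hf v ?_) ?_
  · have : z = (z ^ (m * 3)) ^ (if m = 1 then 9 else 3) := by
      rw [← pow_mul, show m * 3 * (if m = 1 then 9 else 3) = 13 * 2 + 1 by rcases hm with rfl | rfl <;> rfl,
        pow_succ, pow_mul, z13, one_pow, one_mul]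
    rw [this]
    exact (MulAction.stabilizer Co0 v).pow_mem hv _
  · have : Fact (Nat.Prime 3) := ⟨Nat.prime_three⟩
    have := aeval_eq_zero_of_dvd_aeval_eq_zero (map_dvd (expand ℚ m) (mul_dvd_mul_right
      (Dvd.intro _ (cyclotomic_prime_mul_X_sub_one ℚ 3)) (X ^ 13 - 1))) e
    simp only [map_sub, map_mul (expand ℚ m), map_mul (aeval _), map_pow, expand_X, aeval_X, map_one] at this
    rwa [← pow_mul, ← pow_mul, ← map_pow, ← map_pow, w2, w3] at this

open Polynomial in
theorem c13_nine {z g : Co0} (hz : orderOf z = 13) (hf : ∀ v : leechLattice, z • v = v → v = 0)
    (c : Commute g z) (hg : g ^ 9 = 1) : g ^ 3 = 1 :=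
  (c13_main hz hf c (.inr rfl) hg).resolve_left fun d => by
    have := natDegree_le_of_dvd (d.trans (Matrix.minpoly_dvd_charpoly _)) (Matrix.charpoly_monic _).ne_zero
    rw [natDegree_cyclotomic, Matrix.charpoly_natDegree_eq_dim, card_golayPt] at this
    exact absurd this (by decide +kernel)

open Polynomial in
theorem c13_three {z g : Co0} (hz : orderOf z = 13) (hf : ∀ v : leechLattice, z • v = v → v = 0)
    (c : Commute g z) (hg : g ^ 3 = 1) (h1 : g ≠ 1) : rho g ^ 2 + rho g + 1 = 0 := by
  have d := (c13_main hz hf c (.inl rfl) hg).resolve_right (by rwa [pow_one])
  have e : (rho (g * z)).charpoly = cyclotomic 39 ℚ :=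
    eq_of_monic_of_dvd_of_natDegree_le (cyclotomic.monic _ _) (Matrix.charpoly_monic _)
      (d.trans (Matrix.minpoly_dvd_charpoly _)) (by
        rw [natDegree_cyclotomic, Matrix.charpoly_natDegree_eq_dim, card_golayPt]; decide +kernel)
  have w3 : (g * z) ^ 13 = g := by
    rw [c.mul_pow, ← hz, pow_orderOf_eq_one, mul_one, hz, show 13 = 3 * 4 + 1 from rfl, pow_succ,
      pow_mul, hg, one_pow, one_mul]
  have := congrArg (aeval (rho (g * z))) c13_poly.2
  rw [map_mul (aeval _), ← e, Matrix.aeval_self_charpoly, zero_mul] at this
  simp only [map_add, map_pow, aeval_X, map_one] at this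
  rwa [← map_pow rho (g * z), w3] at this

theorem c13_not9 {z : Co0} (hz : orderOf z = 13) (hf : ∀ v : leechLattice, z • v = v → v = 0) :
    ¬ 9 ∣ Nat.card (centralizer ({z} : Set Co0)) := fun h => by
  have : Fact (Nat.Prime 3) := ⟨Nat.prime_three⟩
  obtain ⟨P, hP⟩ := Sylow.exists_subgroup_card_pow_prime 3 (n := 2) h
  have cz : ∀ g : P, Commute (g.1 : Co0) z := fun g => mem_centralizer_singleton_iff.1 g.1.2
  have g3 : ∀ g : P, g ^ 3 = 1 := fun g => Subtype.ext (Subtype.ext (c13_nine hz hf (cz g) (by
    have := congrArg (fun x : P => (x.1 : Co0)) (pow_card_eq_one' (x := g))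
    rwa [hP] at this)))
  have q : ∀ g : P, g ≠ 1 → rho (g.1 : Co0) ^ 2 + rho (g.1 : Co0) + 1 = 0 := fun g h1 =>
    c13_three hz hf (cz g) (congrArg (fun x : P => (x.1 : Co0)) (g3 g))
      fun e => h1 (Subtype.ext (Subtype.ext e))
  have : Nontrivial P := Finite.one_lt_card_iff_nontrivial.1 (by rw [hP]; norm_num)
  obtain ⟨a, ha⟩ := exists_ne (1 : P)
  obtain ⟨b, hb⟩ : ∃ b, b ∉ zpowers a := by
    by_contra e
    have := card_top (G := P)
    rw [← (eq_top_iff' _).2 fun b => not_not.1 (not_exists.1 e b), Nat.card_zpowers,
      orderOf_eq_prime (g3 a) ha, hP] at this
    exact absurd this (by norm_num)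
  have ab : a * b = b * a := IsPGroup.commutative_of_card_eq_prime_sq hP a b
  have q1 := q a ha
  have q2 := q b fun e => hb (e ▸ one_mem _)
  have q3 := q (a * b) fun e => hb (eq_inv_of_mul_eq_one_right e ▸ inv_mem (mem_zpowers a))
  have q4 := q (a * b ^ 2) fun e => hb (by
    rw [show b = a from by rw [eq_inv_of_mul_eq_one_left e, eq_inv_iff_mul_eq_one, ← pow_succ', g3]]
    exact mem_zpowers a)
  have b3 := congrArg (fun x : P => rho (x.1 : Co0)) (g3 b)
  have c : Commute (rho (a.1 : Co0)) (rho (b.1 : Co0)) := by
    have := congrArg (fun x : P => rho (x.1 : Co0)) ab
    simpa [Commute, SemiconjBy] using this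
  simp only [coe_mul, map_mul, SubgroupClass.coe_pow, map_pow, OneMemClass.coe_one, map_one] at q3 q4 b3
  generalize rho (a.1 : Co0) = A at *
  generalize rho (b.1 : Co0) = B at *
  rw [c.mul_pow] at q3
  rw [(c.pow_right 2).mul_pow, ← pow_mul, show 2 * 2 = 3 + 1 from rfl, pow_succ B 3, b3, one_mul] at q4
  have e : (A ^ 2 + A + 1) * (B ^ 2 + B + 1) + 1 + 1 + 1 = (A ^ 2 + A + 1) + (B ^ 2 + B + 1) +
      (A ^ 2 * B ^ 2 + A * B + 1) + (A ^ 2 * B + A * B ^ 2 + 1) := by noncomm_ring
  rw [q1, q2, q3, q4] at e
  have := congrFun (congrFun e none) none
  simp only [Matrix.add_apply, Matrix.one_apply_eq, zero_mul, Matrix.zero_apply] at this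
  norm_num at this

theorem co13_odd {z : Co0} (hz : orderOf z = 13) (hf : ∀ v : leechLattice, z • v = v → v = 0)
    {n : ℕ} (hn : Odd n) (h : n ∣ Nat.card (centralizer ({z} : Set Co0))) : n ∣ 39 := by
  refine (Nat.dvd_iff_prime_pow_dvd_dvd _ _).2 fun p k hp hk => ?_
  rcases k with _ | k
  · simp
  have h1 : p ∣ n := (dvd_pow_self p k.succ_ne_zero).trans hk
  have h2 : p ≠ 2 := fun e => (Nat.not_even_iff_odd.2 hn) (even_iff_two_dvd.2 (e ▸ h1))
  have h3 : p = 3 ∨ p = 13 := by
    by_contra e
    rw [not_or] at e
    obtain ⟨g, a, b⟩ := exists_ord hp (h1.trans h)
    have := hp.two_le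
    have h4 : p ≠ 4 := fun c => by subst c; exact absurd hp (by norm_num)
    exact cent13 (orderOf_toCo1 (by norm_num) (by norm_num) hz) hp (by omega) e.2 (orderOf_toCo1 hp h2 b)
      (by rw [← map_mul, ← map_mul, mem_centralizer_singleton_iff.1 a])
  rcases k with _ | k
  · rcases h3 with rfl | rfl <;> norm_num
  have h4 : p ^ 2 ∣ Nat.card (centralizer ({z} : Set Co0)) :=
    ((pow_dvd_pow p (by omega)).trans hk).trans h
  rcases h3 with rfl | rfl
  · exact absurd h4 (c13_not9 hz hf)
  · have := h4.trans (card_subgroup_dvd_card _)
    rw [card_Co0] at this
    exact absurd this (by norm_num)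

end

end Cfsg.Lib.RV
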