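import Cfsg.Agent.RV.Fus
import Cfsg.Agent.Fus.Thompson
import Cfsg.Agent.Fus.GroupFusion

/-! The data of a finite group, transport to the model, and the two systems for the prime `3`. -/

set_option autoImplicit false

namespace Cfsg.Lib.RV

open Matrix Subgroup Cfsg.Lib.Fus FusionSystem

universe u

variable {p : ℕ} [hp : Fact p.Prime] {G : Type*} [Group G] {j : Hs p →* G}

/-- The system induced by a group. -/
def pull (hj : Function.Injective j) : FusionSystem (⊤ : Subgroup (Hs p)) :=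
  Rk2.pullSys (j.comp (⊤ : Subgroup (Hs p)).subtype) (hj.comp Subtype.val_injective)

omit hp in
theorem pull_realized (hj : Function.Injective j) :
    (pull hj).IsRealizedBy (j.comp (⊤ : Subgroup (Hs p)).subtype) := Rk2.pullSys_realized _ _

omit hp in
theorem ext_top_eq (x : Hs p) : extFun (j.comp (⊤ : Subgroup (Hs p)).subtype) x = j x :=
  extFun_of_mem _ (mem_top x)

omit hp in
theorem mor_pull (hj : Function.Injective j) {P : Subgroup (Hs p)} {f : Hs p → Hs p} :
    Mor (pull hj) P f ↔ ∃ g : G, ∀ x ∈ P, j (f x) = g * j x * g⁻¹ := by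
  simp [mor_iff_of_realized (pull_realized hj), ext_top_eq]

omit hp in
theorem WF_pull (hj : Function.Injective j) : WF (pull hj) = WG j := Subgroup.ext fun _ =>
  (mor_pull hj).trans (exists_congr fun _ => ⟨fun h x => (h x trivial).symm, fun h x _ => (h x).symm⟩)

theorem RF_pull (hj : Function.Injective j) : RF (pull hj) = RG j := by
  have k : ∀ x y, (pull hj).IsConjElt x y ↔ IsConj (j x) (j y) := fun x y => by
    rw [isConjElt_iff, _root_.isConj_iff]
    refine ⟨fun ⟨f, hf, e⟩ => ?_, fun ⟨g, hg⟩ => ⟨_, mor_pullConj (pull_realized hj) le_top (g := g) ?_,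
      (eq_pullConj (pull_realized hj).1 trivial (by rw [ext_top_eq, ext_top_eq, hg])).symm⟩⟩
    · obtain ⟨g, hg⟩ := (mor_pull hj).1 hf
      exact ⟨g, by rw [← hg x (mem_zpowers x), e]⟩
    · rintro _ ⟨n, rfl⟩
      exact ⟨⟨y ^ n, trivial⟩, by simp [ext_top_eq, ← hg]⟩
  exact Set.ext fun u => by simp only [RF, RG, k]

variable [Finite G]

omit [Finite G] in
theorem exists_sylow (hj : Function.Injective j) (h4 : ¬ p ^ 4 ∣ Nat.card G) :
    ∃ T : Sylow p G, (T : Subgroup G) = j.range := by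
  have hc : Nat.card j.range = p ^ 3 := by
    rw [← Hs.card p]; exact (Nat.card_congr (MonoidHom.ofInjective hj).toEquiv).symm
  exact ⟨(IsPGroup.of_card hc).toSylow fun h => h4 (by
    rw [← j.range.card_mul_index, hc, pow_succ p 3]; exact Nat.mul_dvd_mul_left _ h), rfl⟩

omit [Finite G] in
theorem exists_sylow' (hj : Function.Injective j) (h4 : ¬ p ^ 4 ∣ Nat.card G) :
    ∃ T : Sylow p G, (T : Subgroup G) = (j.comp (⊤ : Subgroup (Hs p)).subtype).range := by
  rw [MonoidHom.range_comp, range_subtype, ← MonoidHom.range_eq_map]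
  exact exists_sylow hj h4

theorem dat_group (h2 : p ≠ 2) (hj : Function.Injective j) (h4 : ¬ p ^ 4 ∣ Nat.card G) :
    Dat (WG j) (RG j) :=
  WF_pull hj ▸ RF_pull hj ▸ dat_of_sat h2 (saturated_of_realized (pull_realized hj) (exists_sylow' hj h4))

theorem Real.realizable (h2 : p ≠ 2) {F : FusionSystem (⊤ : Subgroup (Hs p))} (hF : F.IsSaturated p)
    (h : Real (WF F) (RF F)) : F.IsRealizable p := by
  obtain ⟨G, _, _, j, hj, h4, hW, hR⟩ := h
  have hE := saturated_of_realized (pull_realized hj) (exists_sylow' hj h4)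
  rw [← WF_pull hj] at hW
  rw [← RF_pull hj] at hR
  obtain rfl : F = pull hj := Grp.fs_ext fun P =>
    (le_of h2 hF hE hW.ge hR.ge P).antisymm (le_of h2 hE hF hW.le hR.le P)
  exact ⟨G, _, ‹_›, _, pull_realized hj, exists_sylow' hj h4⟩

theorem realizable_of_model (h : ∀ F : FusionSystem (⊤ : Subgroup (Hs p)), F.IsSaturated p → F.IsRealizable p)
    {Ω : Type u} [Group Ω] {S : Subgroup Ω} [Finite S] (hS : IsPGroup p S) {F : FusionSystem S}
    (hF : F.IsSaturated p) (e : Hs p ≃* S) : F.IsRealizable p := by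
  have hi := injOn_extFun (ι := e.symm.toMonoidHom) e.symm.injective
  obtain ⟨D, hD⟩ : ∃ D : FusionSystem (⊤ : Subgroup (Hs p)), FImg F D (extFun e.symm.toMonoidHom) := by
    rw [← MonoidHom.range_eq_top.2 (show Function.Surjective e.symm.toMonoidHom from e.symm.surjective),
      ← img_extFun_top]
    exact exists_fImg_of_injOn F (mulOn_extFun _) hi
  obtain ⟨G, _, _, ι, h1, T, hT⟩ := h D (hD.saturated hS hF)
  let k : G ≃* ULift.{u} G := MulEquiv.ulift.symm
  let e' : S ≃* (⊤ : Subgroup (Hs p)) := e.symm.trans topEquiv.symm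
  let κ : S →* ULift.{u} G := k.toMonoidHom.comp (ι.comp e'.toMonoidHom)
  have hκ : ∀ x ∈ S, extFun κ x = k (extFun ι (extFun e.symm.toMonoidHom x)) := fun x hx => by
    rw [extFun_of_mem _ hx, extFun_of_mem _ hx, extFun_of_mem ι trivial]; rfl
  refine ⟨ULift.{u} G, inferInstance, inferInstance, κ, isRealizedBy_of_mor
    (k.injective.comp (h1.1.comp e'.injective)) (fun P f hf => ?_) fun P f g hP hm hg => ?_,
    T.mapSurjective (f := k.toMonoidHom) k.surjective, ?_⟩
  · obtain ⟨f', h3, h4⟩ := hD.mor P f hf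
    obtain ⟨g, hg⟩ := h3.exists_conj_of_realized h1
    exact ⟨k g, fun x hx => by
      rw [hκ _ (hf.maps hx), hκ _ (hf.le hx), ← h4 x hx, hg _ (mem_img_of_mem _ hx), map_mul, map_mul,
        map_inv]⟩
  · have he : ∀ y, extFun e.symm.toMonoidHom (e y : Ω) = y := fun y => by simp
    have he' : ∀ x ∈ S, (e (extFun e.symm.toMonoidHom x) : Ω) = x := fun x hx => by
      simp [extFun_of_mem _ hx]
    obtain ⟨f', h3, h4⟩ := hD.lift (img P (extFun e.symm.toMonoidHom))
      (fun y => extFun e.symm.toMonoidHom (f (e y))) ((mor_iff_of_realized h1).2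
        ⟨le_top, fun _ _ => trivial, k.symm g, fun y hy => by
          obtain ⟨x, hx, rfl⟩ := (mem_img_extFun' _ hP).1 hy
          apply k.injective
          rw [he' x (hP hx), ← hκ _ (hm x hx), hg x hx, hκ _ (hP hx)]
          simp⟩)
    refine (h3.restrict (le_pre_img hP)).congr fun x hx => hi (h3.maps (le_pre_img hP hx)) (hm x hx) ?_
    rw [← h4 x (le_pre_img hP hx), he' x (hP hx)]
  · refine (Sylow.coe_mapSurjective _ T).trans ?_
    rw [hT, MonoidHom.range_comp, MonoidHom.range_comp,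
      MonoidHom.range_eq_top.2 (show Function.Surjective e'.toMonoidHom from e'.surjective),
      ← MonoidHom.range_eq_map]

theorem WG_ne (h2 : p ≠ 2) {T : Subgroup G} (hT : T.index = 2) {j : Hs p →* T} (hj : Function.Injective j)
    (h4 : ¬ p ^ 4 ∣ Nat.card G) (hc : ∀ a : G, orderOf a = 2 → ¬ p ^ 2 ∣ Nat.card (centralizer ({a} : Set G))) :
    WG j < WG (T.subtype.comp j) := by
  have := normal_of_index_eq_two hT
  have hj' : Function.Injective (T.subtype.comp j) := Subtype.val_injective.comp hj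
  refine lt_of_le_of_ne (fun A ⟨g, hg⟩ => ⟨g, fun x => congrArg Subtype.val (hg x)⟩) fun e => ?_
  obtain ⟨P, hP⟩ := exists_sylow hj' h4
  have h1 := Sylow.normalizer_sup_eq_top' P (N := T) (by rw [hP]; rintro _ ⟨x, rfl⟩; exact (j x).2)
  obtain ⟨g, hg, hgT⟩ : ∃ g ∈ normalizer ((P : Subgroup G) : Set G), g ∉ T := by
    by_contra! k
    rw [sup_eq_right.2 k] at h1
    simp [h1] at hT
  rw [hP] at hg
  obtain ⟨A, hA, s, hs⟩ := mor_top h2 (mor_pullConj (pull_realized hj') le_top (g := g) fun x _ => by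
    obtain ⟨y, hy⟩ := conj_mem_of_mem_normalizer hg ⟨x, rfl⟩
    exact ⟨⟨y, trivial⟩, hy.trans (by rw [ext_top_eq])⟩)
  rw [WF_pull, ← e] at hA
  obtain ⟨n, hn⟩ := hA
  have h3 : ∀ x, Commute (((j s * n : T) : G)⁻¹ * g) (j x) := fun x => by
    obtain ⟨y, hy⟩ := conj_mem_of_mem_normalizer hg ⟨x, rfl⟩
    have h5 := eq_pullConj (pull_realized hj').1 (g := g) (x := x) (y := y) trivial
      (by rw [ext_top_eq, ext_top_eq, hy])
    rw [hs] at h5
    have h6 : (j y : G) = (j s * n : T) * j x * ((j s * n : T) : G)⁻¹ := by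
      rw [h5, map_mul, map_mul, map_inv, ← hn]; push_cast; group
    change (j y : G) = g * j x * g⁻¹ at hy
    rw [hy] at h6
    generalize ((j s * n : T) : G) = m at h6 ⊢
    rw [Commute, SemiconjBy, mul_assoc, mul_inv_eq_iff_eq_mul.1 h6]; group
  have h7 : (((j s * n : T) : G)⁻¹ * g) ∉ T := fun h => hgT ((T.mul_mem_cancel_left (inv_mem (j s * n).2)).1 h)
  generalize (((j s * n : T) : G)⁻¹ * g) = c at h3 h7
  have h8 : 2 ∣ orderOf c := by
    have h9 := orderOf_map_dvd (QuotientGroup.mk' T) c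
    have := Fact.mk Nat.prime_two
    rwa [orderOf_eq_prime (p := 2) (x := QuotientGroup.mk' T c) (by rw [← hT]; exact pow_card_eq_one')
      (mt (QuotientGroup.eq_one_iff c).1 h7)] at h9
  refine hc (c ^ (orderOf c / 2)) (orderOf_pow_orderOf_div (orderOf_pos c).ne' h8)
    ((pow_dvd_pow p (by norm_num : 2 ≤ 3)).trans ?_)
  rw [← Hs.card p, Nat.card_congr (MonoidHom.ofInjective hj').toEquiv]
  refine card_dvd_of_le ?_
  rintro _ ⟨x, rfl⟩
  exact mem_centralizer_singleton_iff.2 ((h3 x).pow_left _).symm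

end Cfsg.Lib.RV
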