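import Cfsg.Agent.RV.Defs
import Cfsg.Agent.ThT.M248P5
import Cfsg.Agent.S1700

/-! In the Thompson group, the elements of a subgroup `5 ^ (1 + 2)` on three lines are conjugate
into its centre. -/

set_option autoImplicit false
set_option maxRecDepth 100000
set_option Elab.async false

namespace Cfsg.Lib.RV

open Cfsg.Lib.Spor.MG Cfsg.Lib.Spor.Bulk Cfsg.Lib.Spor Cfsg.Lib.ThT.M248

/-- a word conjugating `x` to `z ^ 3` -/
def thG : ℕ := 316039781814590596191293537204841359991422828864326753173857386501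

/-- a word conjugating `x` to `y` and `y` to `x ^ 4 * y ^ 4 * z ^ 2` -/
def thY : ℕ := 27237212160574571019955800079602198552581

theorem th_ok : band (okE 65535 thG) (okE 65535 thY) = true := by decide +kernel

theorem th_g : Nat.beq (O.mul (O.ev (pl p5T) thG) (pl p5T 13))
    (O.mul (O.pw (pl p5T 15) 3) (O.ev (pl p5T) thG)) = true := by decide +kernel

theorem th_y : band (Nat.beq (O.mul (O.ev (pl p5T) thY) (pl p5T 13))
    (O.mul (pl p5T 14) (O.ev (pl p5T) thY))) (Nat.beq (O.mul (O.ev (pl p5T) thY) (pl p5T 14))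
    (O.mul (O.mul (O.mul (O.pw (pl p5T 13) 4) (O.pw (pl p5T 14) 4)) (O.pw (pl p5T 15) 2))
      (O.ev (pl p5T) thY))) = true := by decide +kernel

theorem th_r : band (band (Nat.beq (O.mul (pl p5T 13) (pl p5T 14))
    (O.mul (pl p5T 15) (O.mul (pl p5T 14) (pl p5T 13)))) (Nat.beq (O.pw (pl p5T 15) 5) O.one))
    (band (Nat.beq (O.mul (pl p5T 15) (pl p5T 13)) (O.mul (pl p5T 13) (pl p5T 15)))
      (Nat.beq (O.mul (pl p5T 15) (pl p5T 14)) (O.mul (pl p5T 14) (pl p5T 15)))) = true := by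
  decide +kernel

theorem th_ne : T3.ent (ZMod 3) (248 * 248) (pl p5T 15) (0 * 248 + 0) ≠ 1 := by decide +kernel

theorem tri_Th : Tri 5 Cfsg.Spor.Th := by
  let e := Equiv.refl (Fin 248)
  let φ : Cfsg.Spor.Th →* Matrix (Fin 248) (Fin 248) (ZMod 3) := (Units.coeHom _).comp (f e)
  have A := p5A e
  have pre : ∀ {c : ℕ}, (I e).InS (f e).range c → ∃ g, φ g = (I e).dec c := by
    rintro c ⟨_, ⟨g, rfl⟩, h⟩
    exact ⟨g, h⟩
  obtain ⟨x, hx⟩ := pre (A.tb (i := 13) rfl)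
  obtain ⟨y, hy⟩ := pre (A.tb (i := 14) rfl)
  obtain ⟨z, hz⟩ := pre (A.tb (i := 15) rfl)
  have ok := th_ok
  rw [band_eq, Bool.and_eq_true] at ok
  obtain ⟨g, hg⟩ := pre (A.ev ok.1)
  obtain ⟨k, hk⟩ := pre (A.ev ok.2)
  have z1 : φ z ≠ 1 := fun h => th_ne (by
    have := congrFun (congrFun (hz.symm.trans h) 0) 0
    rwa [Matrix.one_apply_eq] at this)
  have inj : Function.Injective φ := by
    have := Cfsg.Agent.S1700.result.1
    rw [← MonoidHom.ker_eq_bot_iff]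
    refine (Subgroup.Normal.eq_bot_or_eq_top φ.normal_ker).resolve_right fun h => z1 ?_
    exact MonoidHom.mem_ker.1 (h ▸ Subgroup.mem_top z)
  have D : ∀ {a b : ℕ}, Nat.beq a b = true → (I e).dec a = (I e).dec b := fun h =>
    congrArg _ (Nat.eq_of_beq_eq_true h)
  have h1 := D th_g
  have h2 := th_y
  have h3 := th_r
  simp only [band_eq, Bool.and_eq_true] at h2 h3
  have h4 := D h2.1
  have h5 := D h2.2
  have h6 := D h3.1.1
  have h7 := D h3.1.2
  have h8 := D h3.2.1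
  have h9 := D h3.2.2
  simp only [Impl.dec_mul, Impl.dec_pw, Impl.dec_one, ← hx, ← hy, ← hz, ← hg, ← hk, ← map_pow,
    ← map_mul] at h1 h4 h5 h6 h7 h8 h9
  have z5 : z ^ 5 = 1 := inj (h7.trans φ.map_one.symm)
  have cx : IsConj x (z ^ 3) := isConj_iff.2 ⟨g, by rw [inj h1, mul_inv_cancel_right]⟩
  have cy : IsConj x y := isConj_iff.2 ⟨k, by rw [inj h4, mul_inv_cancel_right]⟩
  have cw : IsConj y (x ^ 4 * y ^ 4 * z ^ 2) := isConj_iff.2 ⟨k, by rw [inj h5, mul_inv_cancel_right]⟩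
  have pw : ∀ {v : Cfsg.Spor.Th}, IsConj v (z ^ 3) → v ^ 5 = 1 := fun h => by
    have := h.pow 5
    rwa [← pow_mul, mul_comm, pow_mul, z5, one_pow, isConj_one_left] at this
  exact ⟨x, y, z, pw cx, pw (cy.symm.trans cx), z5, fun h => z1 (h ▸ φ.map_one), inj h6, inj h8,
    inj h9, ⟨3, cx⟩, ⟨3, cy.symm.trans cx⟩, 4, 4, 2, 3, by norm_num, by norm_num,
    cw.symm.trans (cy.symm.trans cx)⟩

end Cfsg.Lib.RV
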